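import Cfsg.Agent.Lib.Sporadic.HNSub.A.Tree0

set_option autoImplicit false
set_option maxRecDepth 20000

/-! Generated certificate (owner: helper25). -/

namespace CfsgLib.Sporadic.HNSub.A
open CfsgLib.Recog.SporBound (Q)

/-- The certificate. -/
noncomputable def cert : CfsgLib.Sporadic.PairEnum.Cert where
  n := 168
  nd := 172
  nf := 353
  nl := 4
  kl := [0, 2]
  facts := ft1
  cn := (.node (.leaf 0x8f0009c0008d0004500080000940003e00063000670007400099000300005e000430004b0005b0003a00026000a800034000120004e000410004a0005c00065000570005500073000130006c000770007800082000860009b0002400093000880001d000a90009f0002e000a5000a7000620003600037000a40002f0009e0000b000400005a00025000270003f000110000e0000c000ab000640001b00075000690007200083000850007e0007c0008e0001c0008c0002d00091000960003500098000420000a000390009a00033000100000d000520001a0001700015000a0000840002300090000890002c000970005d0002b00028000310003800006000070004f00019000160007900022000200001e000a30002a0000900032000010000f00076000210001f000920000500002000180002900004000030000800000) (.leaf 0x540004700061000490006000048000aa000a600053000710006f000590004d000870003c0008b0009d0004600081000950006a0006b0005f000580007b0004c0003d000440005000051000660008a0007f000680001400070000a2000ac0007a0003b)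 (.leaf 0) (.leaf 0))
  steps := st2
  finals := et3
  rels := [[3, 3, 3, 3], [1, 2, 1, 2, 1, 2], [1, 1, 1], [1, 2, 2, 1, 2, 2, 1, 2, 2, 1, 2, 2]]
  subs := []

end CfsgLib.Sporadic.HNSub.A
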